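import Cfsg.Agent.Lib.CosetEnum.MclStepG.Data

/-! Generated certificate. -/

set_option autoImplicit false
set_option maxRecDepth 20000

namespace Cfsg.Lib.CosetEnum.MclStepG

theorem closed_3 : closedOK tabF tabZ tabP 56215 22275 5 [0, 1, 2, 3, 4] 4000 12000 = true := by decide +kernel

theorem closed_4 : closedOK tabF tabZ tabP 56215 22275 5 [0, 1, 2, 3, 4] 4000 16000 = true := by decide +kernel

theorem closed_5 : closedOK tabF tabZ tabP 56215 22275 5 [0, 1, 2, 3, 4] 2275 20000 = true := by decide +kernel

end Cfsg.Lib.CosetEnum.MclStepG
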