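import Cfsg.Agent.Lib.CosetEnum.MclStepG.DefsPart0
import Cfsg.Agent.Lib.CosetEnum.MclStepG.DefsPart1
import Cfsg.Agent.Lib.CosetEnum.MclStepG.StepsPart0
import Cfsg.Agent.Lib.CosetEnum.MclStepG.StepsPart1
import Cfsg.Agent.Lib.CosetEnum.MclStepG.StepsPart2
import Cfsg.Agent.Lib.CosetEnum.MclStepG.StepsPart3
import Cfsg.Agent.Lib.CosetEnum.MclStepG.StepsPart4
import Cfsg.Agent.Lib.CosetEnum.MclStepG.StepsPart5
import Cfsg.Agent.Lib.CosetEnum.MclStepG.StepsPart6
import Cfsg.Agent.Lib.CosetEnum.MclStepG.StepsPart7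
import Cfsg.Agent.Lib.CosetEnum.MclStepG.StepsPart8
import Cfsg.Agent.Lib.CosetEnum.MclStepG.StepsPart9
import Cfsg.Agent.Lib.CosetEnum.MclStepG.StepsPart10
import Cfsg.Agent.Lib.CosetEnum.MclStepG.StepsPart11
import Cfsg.Agent.Lib.CosetEnum.MclStepG.ClosedPart0
import Cfsg.Agent.Lib.CosetEnum.MclStepG.ClosedPart1

/-! Generated certificate. -/

set_option autoImplicit false
set_option maxRecDepth 20000

namespace Cfsg.Lib.CosetEnum.MclStepG

theorem step_valid {R0 : List (List Nat)} (h : shiftsOK R0 relWords = true) : step.Valid R0 where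
  pos := by decide +kernel
  shifts := h
  defs := (defsOK_append (a := 12000) (b := 10274) (defsOK_append (a := 4000) (b := 8000) defs_0 (defsOK_append (a := 4000) (b := 4000) defs_1 defs_2)) (defsOK_append (a := 4000) (b := 6274) defs_3 (defsOK_append (a := 4000) (b := 2274) defs_4 defs_5)))
  steps := (stepsOK_append (m := 16500) (n := 17441) (stepsOK_append (m := 7500) (n := 9000) (stepsOK_append (m := 3000) (n := 4500) (stepsOK_append (m := 1500) (n := 1500) steps_0 steps_1) (stepsOK_append (m := 1500) (n := 3000) steps_2 (stepsOK_append (m := 1500) (n := 1500) steps_3 steps_4))) (stepsOK_append (m := 4500) (n := 4500) (stepsOK_append (m := 1500) (n := 3000) steps_5 (stepsOK_append (m := 1500) (n := 1500) steps_6 steps_7)) (stepsOK_append (m := 1500) (n := 3000) steps_8 (stepsOK_append (m := 1500) (n := 1500) steps_9 steps_10)))) (stepsOK_append (m := 9000) (n := 8441) (stepsOK_append (m := 4500) (n := 4500) (stepsOK_append (m := 1500) (n := 3000) steps_11 (stepsOK_append (m := 1500) (n := 1500) steps_12 steps_13))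 (stepsOK_append (m := 1500) (n := 3000) steps_14 (stepsOK_append (m := 1500) (n := 1500) steps_15 steps_16))) (stepsOK_append (m := 4500) (n := 3941) (stepsOK_append (m := 1500) (n := 3000) steps_17 (stepsOK_append (m := 1500) (n := 1500) steps_18 steps_19)) (stepsOK_append (m := 1500) (n := 2441) steps_20 (stepsOK_append (m := 1500) (n := 941) steps_21 steps_22)))))
  closed := (closedOK_append (a := 12000) (b := 10275) (closedOK_append (a := 4000) (b := 8000) closed_0 (closedOK_append (a := 4000) (b := 4000) closed_1 closed_2)) (closedOK_append (a := 4000) (b := 6275) closed_3 (closedOK_append (a := 4000) (b := 2275) closed_4 closed_5)))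

end Cfsg.Lib.CosetEnum.MclStepG
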